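import Groth.Agent.CentLift19.LocalExist

/-!
# Morphisms out of finite schemes over complete local rings, level by level
-/

universe u

open CategoryTheory CategoryTheory.Limits MonoidalCategory CartesianMonoidalCategory AlgebraicGeometry

set_option linter.style.haveILetI false

noncomputable section

namespace Groth.Agent.Levels19

open CentLift19 (restr₀ inc₀ mono_inc₀)

section Factor

variable {S S₀ : Scheme.{u}} (q : S₀ ⟶ S)

/-- A point over a scheme factoring through `q` comes from the restriction. -/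
theorem exists_factor {T M : Over S} (x : T ⟶ M) (p : T ⟶ Over.mk q) :
    ∃ l : T ⟶ restr₀ q M, l ≫ inc₀ q M = x := by
  have hw : x.left ≫ M.hom = p.left ≫ q := (Over.w x).trans (Over.w p).symm
  refine ⟨Over.homMk (pullback.lift (f := M.hom) (g := q) x.left p.left hw) ?_, Over.OverMorphism.ext ?_⟩
  · show pullback.lift _ _ hw ≫ pullback.snd M.hom q ≫ q = T.hom
    rw [pullback.lift_snd_assoc]
    exact Over.w p
  · show pullback.lift _ _ hw ≫ 𝟙 _ ≫ pullback.fst M.hom q = x.left
    erw [Category.id_comp, pullback.lift_fst]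

/-- The structure map of a restriction. -/
abbrev down (M : Over S) : restr₀ q M ⟶ Over.mk q := Over.homMk (pullback.snd M.hom q) rfl

end Factor

variable (A : Type u) [CommRing A] [IsLocalRing A]

/-- The closed subschemes of the powers of the maximal ideal. -/
abbrev Q (k : ℕ) : Spec (CommRingCat.of (A ⧸ IsLocalRing.maximalIdeal A ^ (k + 1))) ⟶ Spec (CommRingCat.of A) :=
  Spec.map (CommRingCat.ofHom (Ideal.Quotient.mk (IsLocalRing.maximalIdeal A ^ (k + 1))))

instance isClosedImmersion_Q (k : ℕ) : IsClosedImmersion (Q A k) :=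
  IsClosedImmersion.spec_of_surjective _ Ideal.Quotient.mk_surjective

/-- The inclusion of a level into the next one. -/
abbrev tr (k : ℕ) : Over.mk (Q A k) ⟶ Over.mk (Q A (k + 1)) :=
  Over.homMk (Spec.map (CommRingCat.ofHom (Ideal.Quotient.factor
    (Ideal.pow_le_pow_right (I := IsLocalRing.maximalIdeal A) (Nat.le_succ (k + 1)))))) (by
    show _ ≫ Spec.map _ = Spec.map _
    rw [← Spec.map_comp]
    rfl)

variable [IsNoetherianRing A] [IsAdicComplete (IsLocalRing.maximalIdeal A) A]
variable {W Y : Over (Spec (CommRingCat.of A))} [IsFinite W.hom]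

/-- Compatible morphisms out of the levels of a finite scheme come from a unique morphism. -/
theorem existsUnique_algebraize (w : ∀ k, restr₀ (Q A k) W ⟶ Y)
    (hw : ∀ k (t : restr₀ (Q A k) W ⟶ restr₀ (Q A (k + 1)) W),
      t ≫ inc₀ (Q A (k + 1)) W = inc₀ (Q A k) W → t ≫ w (k + 1) = w k) :
    ∃! b : W ⟶ Y, ∀ k, inc₀ (Q A k) W ≫ b = w k := by
  haveI : IsAffine W.left := isAffine_of_isAffineHom W.hom
  let B : Type u := Γ(W.left, ⊤)
  let φ : CommRingCat.of A ⟶ CommRingCat.of B := Spec.preimage (W.left.isoSpec.inv ≫ W.hom)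
  have hφ : Spec.map φ = W.left.isoSpec.inv ≫ W.hom := Spec.map_preimage _
  letI : Algebra A B := φ.hom.toAlgebra
  haveI : Module.Finite A B := by
    have h : IsFinite (Spec.map φ) := by rw [hφ]; infer_instance
    exact (IsFinite.SpecMap_iff _).1 h
  have hMh : W.left.isoSpec.inv ≫ W.hom = Spec.map (CommRingCat.ofHom (algebraMap A B)) := hφ.symm
  let 𝔪 := IsLocalRing.maximalIdeal A
  let J : ℕ → Ideal B := fun k => Ideal.map (algebraMap A B) (𝔪 ^ k)
  let X : ℕ → Over (Spec (CommRingCat.of A)) := fun k =>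
    Over.mk (Spec.map (CommRingCat.ofHom ((Ideal.Quotient.mk (J k)).comp (algebraMap A B))))
  let ix : ∀ k, X k ⟶ W := fun k => Over.homMk (Spec.map (CommRingCat.ofHom (Ideal.Quotient.mk (J k))) ≫ W.left.isoSpec.inv) (by
    show _ = Spec.map _
    rw [Category.assoc, hMh, ← Spec.map_comp]
    rfl)
  let trX : ∀ k, X k ⟶ X (k + 1) := fun k => Over.homMk (Spec.map (CommRingCat.ofHom (Ideal.Quotient.factor
      (Ideal.map_mono (f := algebraMap A B) (Ideal.pow_le_pow_right (I := 𝔪) (Nat.le_succ k)))))) (by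
    show _ ≫ Spec.map _ = Spec.map _
    rw [← Spec.map_comp]
    rfl)
  have htr : ∀ k, trX k ≫ ix (k + 1) = ix k := fun k => Over.OverMorphism.ext (by
    show Spec.map _ ≫ Spec.map _ ≫ W.left.isoSpec.inv = Spec.map _ ≫ W.left.isoSpec.inv
    rw [← Category.assoc, ← Spec.map_comp]
    rfl)
  have hp : ∀ k, ∀ a ∈ 𝔪 ^ (k + 1), ((Ideal.Quotient.mk (J k)).comp (algebraMap A B)) a = 0 := fun k a ha =>
    Ideal.Quotient.eq_zero_iff_mem.2 (Ideal.mem_map_of_mem _ (Ideal.pow_le_pow_right (Nat.le_succ k) ha))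
  let p : ∀ k, X k ⟶ Over.mk (Q A k) := fun k =>
    Over.homMk (Spec.map (CommRingCat.ofHom (Ideal.Quotient.lift _ _ (hp k)))) (by
      show _ ≫ Spec.map _ = Spec.map _
      rw [← Spec.map_comp, ← CommRingCat.ofHom_comp, Ideal.Quotient.lift_comp_mk])
  choose l hl using fun k => exists_factor (Q A k) (ix k) (p k)
  -- the levels factor through the reductions
  have hback : ∀ k, ∃ e : restr₀ (Q A k) W ⟶ X (k + 1), e ≫ ix (k + 1) = inc₀ (Q A k) W := by
    intro k
    haveI : IsAffine (restr₀ (Q A k) W).left := inferInstanceAs (IsAffine (pullback W.hom (Q A k)))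
    let C : Type u := Γ((restr₀ (Q A k) W).left, ⊤)
    let g : CommRingCat.of B ⟶ CommRingCat.of C :=
      Spec.preimage ((restr₀ (Q A k) W).left.isoSpec.inv ≫ (inc₀ (Q A k) W).left ≫ W.left.isoSpec.hom)
    let c : CommRingCat.of (A ⧸ 𝔪 ^ (k + 1)) ⟶ CommRingCat.of C :=
      Spec.preimage ((restr₀ (Q A k) W).left.isoSpec.inv ≫ (down (Q A k) W).left)
    have hg : φ ≫ g = CommRingCat.ofHom (Ideal.Quotient.mk (𝔪 ^ (k + 1))) ≫ c := by
      apply Spec.map_injective
      rw [Spec.map_comp, Spec.map_comp, hφ, Spec.map_preimage, Spec.map_preimage, Category.assoc, Category.assoc,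
        Category.assoc, Iso.hom_inv_id_assoc, Over.w]
      exact congrArg (_ ≫ ·) (Over.w (down (Q A k) W)).symm
    have hker : ∀ b ∈ J (k + 1), g.hom b = 0 := by
      have : J (k + 1) ≤ RingHom.ker g.hom := Ideal.map_le_iff_le_comap.2 fun a ha => by
        show g.hom (φ.hom a) = 0
        rw [← CommRingCat.comp_apply, hg, CommRingCat.comp_apply]
        show c.hom (Ideal.Quotient.mk _ a) = 0
        rw [Ideal.Quotient.eq_zero_iff_mem.2 ha, map_zero]
      exact fun b hb => this hb
    let e : (restr₀ (Q A k) W).left ⟶ (X (k + 1)).left :=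
      (restr₀ (Q A k) W).left.isoSpec.hom ≫ Spec.map (CommRingCat.ofHom (Ideal.Quotient.lift _ g.hom hker))
    have he : e ≫ (ix (k + 1)).left = (inc₀ (Q A k) W).left := by
      show (_ ≫ Spec.map _) ≫ Spec.map _ ≫ W.left.isoSpec.inv = _
      rw [Category.assoc, ← Category.assoc (Spec.map _) (Spec.map _), ← Spec.map_comp, ← CommRingCat.ofHom_comp,
        Ideal.Quotient.lift_comp_mk, CommRingCat.ofHom_hom, Spec.map_preimage]
      simp
    exact ⟨Over.homMk e (by rw [← Over.w (ix (k + 1)), ← Category.assoc, he, Over.w]), Over.OverMorphism.ext he⟩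
  have hext : ∀ b b' : W ⟶ Y, (∀ k, inc₀ (Q A k) W ≫ b = inc₀ (Q A k) W ≫ b') → b = b' := by
    intro b b' h
    have := (Groth.Agent.S8385.result A B Y).1 (W.left.isoSpec.inv ≫ b.left) (W.left.isoSpec.inv ≫ b'.left)
      (by rw [Category.assoc, Over.w, hMh]) (by rw [Category.assoc, Over.w, hMh]) fun k => by
        have h1 : ix k ≫ b = ix k ≫ b' := by rw [← hl k, Category.assoc, Category.assoc, h k]
        exact (Category.assoc _ _ _).symm.trans ((congrArg CommaMorphism.left h1).trans (Category.assoc _ _ _))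
    exact Over.OverMorphism.ext ((cancel_epi W.left.isoSpec.inv).1 this)
  have hcompat : ∀ k, trX k ≫ l (k + 1) ≫ w (k + 1) = l k ≫ w k := fun k => by
    obtain ⟨t, ht⟩ := exists_factor (Q A (k + 1)) (inc₀ (Q A k) W) (down (Q A k) W ≫ tr A k)
    haveI := mono_inc₀ (Q A (k + 1)) (M := W)
    have h1 : trX k ≫ l (k + 1) = l k ≫ t := by
      rw [← cancel_mono (inc₀ (Q A (k + 1)) W), Category.assoc, Category.assoc, hl, htr, ht, hl]
    rw [← Category.assoc, h1, Category.assoc, hw k t ht]
  obtain ⟨g, hg, hgk⟩ := (Groth.Agent.S8385.result A B Y).2 (fun k => (l k ≫ w k).left)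
    (fun k => Over.w (l k ≫ w k)) fun k => congrArg CommaMorphism.left (hcompat k)
  let b : W ⟶ Y := Over.homMk (W.left.isoSpec.hom ≫ g) (by
    rw [Category.assoc, hg, ← hMh, Iso.hom_inv_id_assoc])
  have hb : ∀ k, ix k ≫ b = l k ≫ w k := fun k => Over.OverMorphism.ext (by
    show (_ ≫ W.left.isoSpec.inv) ≫ W.left.isoSpec.hom ≫ g = _
    rw [Category.assoc, Iso.inv_hom_id_assoc]
    exact hgk k)
  have hbk : ∀ k, inc₀ (Q A k) W ≫ b = w k := fun k => by
    obtain ⟨e, he⟩ := hback k
    rw [← he, Category.assoc, hb, ← Category.assoc]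
    rw [← hw k (e ≫ l (k + 1)) (by rw [Category.assoc, hl, he])]
  exact ⟨b, hbk, fun b' hb' => hext b' b fun k => (hb' k).trans (hbk k).symm⟩

/-- Morphisms out of a finite scheme are determined on the levels. -/
theorem eq_of_levels {b b' : W ⟶ Y} (h : ∀ k, inc₀ (Q A k) W ≫ b = inc₀ (Q A k) W ≫ b') : b = b' :=
  (existsUnique_algebraize A (fun k => inc₀ (Q A k) W ≫ b') fun k t ht => by rw [← Category.assoc, ht]).unique h
    fun _ => rfl

end Groth.Agent.Levels19

end
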