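import Groth.Agent.Levels19.LiftHom

/-!
# Conjugacy of homomorphisms with the same closed fibre
-/

universe u

open CategoryTheory CategoryTheory.Limits MonoidalCategory CartesianMonoidalCategory MonObj GrpObj AlgebraicGeometry

set_option linter.style.haveILetI false

noncomputable section

namespace Groth.Agent.Levels19

open CentLift19 (restr₀ inc₀ mono_inc₀)
open DSPtsLib (theta theta_bijective theta_comp theta_mul)
open MultDefLib (theta_surjective)

variable (A : Type u) [CommRing A] [IsLocalRing A]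
variable {M G : Over (Spec (CommRingCat.of A))} [GrpObj M] [GrpObj G]

/-- The section conjugates `v` to `v'` over the part of the base. -/
def ConjOn {S₀ : Scheme.{u}} (q : S₀ ⟶ Spec (CommRingCat.of A)) (v v' : M ⟶ G) (g : Over.mk q ⟶ G) : Prop :=
  ∀ (T : Over (Spec (CommRingCat.of A))) (p : T ⟶ Over.mk q) (x : T ⟶ M),
    x ≫ v' = (p ≫ g) * (x ≫ v) * (p ≫ g)⁻¹

theorem exists_conj_step (hM : SGA3x.IsMultTypeFT M) [Smooth G.hom] (v v' : M ⟶ G) [IsMonHom v] [IsMonHom v'] (k : ℕ)
    (g : Over.mk (Q A k) ⟶ G) (hg : ConjOn A (Q A k) v v' g) :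
    ∃ g' : Over.mk (Q A (k + 1)) ⟶ G, ConjOn A (Q A (k + 1)) v v' g' ∧ tr A k ≫ g' = g := by
  obtain ⟨a, a', ha'⟩ := exists_toLevel A k
  let q := Q A k
  let q₁ := Q A (k + 1)
  let i := jk A k
  let H := Red.bc q₁ M
  let K := Red.bc q₁ G
  let Z := MultDefLib.S₀ (Jk A k)
  let z : (Over.map q₁).obj Z ⟶ Over.mk (i ≫ q₁) := Over.homMk (𝟙 _) (Category.id_comp _)
  obtain ⟨g₀, hg₀⟩ := theta_surjective q₁ (z ≫ a ≫ g)
  haveI : Smooth K.hom := inferInstanceAs (Smooth (pullback.snd G.hom q₁))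
  let V : H ⟶ K := (Over.pullback q₁).map v
  let V' : H ⟶ K := (Over.pullback q₁).map v'
  haveI : IsMonHom V := MultLift19.isMonHom_pullback_map q₁ v
  haveI : IsMonHom V' := MultLift19.isMonHom_pullback_map q₁ v'
  obtain ⟨gam, hgam, hgamC⟩ := MultDefLib.exists_conj_lift (G := K) (MultDefLib.multLoc_bc q₁ hM) (isNilpotent_Jk A k)
    V V' g₀ fun Y p h => by
      refine (theta_bijective q₁).1 ?_
      rw [theta_mul, theta_mul, MultDefLib.theta_inv, MultLift19.theta_map, MultLift19.theta_map, theta_comp, hg₀]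
      rw [← Category.assoc, ← Category.assoc]
      exact hg _ _ _
  let e : Over.mk q₁ ⟶ (Over.map q₁).obj (𝟙_ _) := Over.homMk (𝟙 _) (by
    show 𝟙 _ ≫ 𝟙 _ ≫ q₁ = q₁
    simp)
  refine ⟨e ≫ theta q₁ gam, fun T p x => ?_, ?_⟩
  · obtain ⟨Y, e₁, y, hp, hx⟩ := MultLift19.exists_theta q₁ p x
    have h1 := congrArg (theta q₁) (hgamC Y y)
    rw [theta_mul, theta_mul, MultDefLib.theta_inv, MultLift19.theta_map, MultLift19.theta_map, theta_comp] at h1
    have h2 : (Over.map q₁).map (toUnit Y) = MultLift19.toU q₁ Y ≫ e := Over.OverMorphism.ext (by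
      show _ = Y.hom ≫ 𝟙 _
      rw [Category.comp_id]
      rfl)
    subst hp hx
    rw [Category.assoc e₁.hom, h1, h2]
    simp only [MonObj.comp_mul, GrpObj.comp_inv, Category.assoc]
  · have h1 := congrArg (theta q₁) hgam
    rw [theta_comp, hg₀] at h1
    have h2 : a' ≫ a = 𝟙 _ := Over.OverMorphism.ext ((cancel_mono q).1
      ((Over.w (a' ≫ a)).trans (Category.id_comp _).symm))
    let a'' : Over.mk q ⟶ (Over.map q₁).obj Z := Over.homMk a'.left (Over.w a')
    have h3 : tr A k ≫ e = a'' ≫ (Over.map q₁).map (toUnit Z) := Over.OverMorphism.ext (by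
      show (tr A k).left ≫ 𝟙 _ = a'.left ≫ i
      rw [Category.comp_id, ha'])
    have h4 : a'' ≫ z = a' := Over.OverMorphism.ext (Category.comp_id _)
    rw [← Category.assoc, h3, Category.assoc, h1, ← Category.assoc, h4, ← Category.assoc, h2, Category.id_comp]

variable [IsNoetherianRing A] [IsAdicComplete (IsLocalRing.maximalIdeal A) A]

/-- Homomorphisms out of a finite group of multiplicative type with the same closed fibre are conjugate. -/
theorem exists_conj (hM : SGA3x.IsMultTypeFT M) [IsFinite M.hom] [Smooth G.hom] (v v' : M ⟶ G) [IsMonHom v] [IsMonHom v']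
    (h : (Over.pullback (CentLift19.closedPt A)).map v = (Over.pullback (CentLift19.closedPt A)).map v') :
    ∃ g : 𝟙_ (Over (Spec (CommRingCat.of A))) ⟶ G,
      (Over.pullback (CentLift19.closedPt A)).map g =
        toUnit _ ≫ η[Red.bc (CentLift19.closedPt A) G] ∧
      ∀ (X : Over (Spec (CommRingCat.of A))) (x : X ⟶ M),
        x ≫ v' = (toUnit X ≫ g) * (x ≫ v) * (toUnit X ≫ g)⁻¹ := by
  let c := CentLift19.closedPt A
  obtain ⟨s, s', -⟩ := exists_relevel A
  have h₀ : ConjOn A (Q A 0) v v' 1 := fun T p x => by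
    obtain ⟨l, rfl⟩ := exists_factor c x (p ≫ s')
    rw [MonObj.comp_one, _root_.one_mul, inv_one, _root_.mul_one, Category.assoc, Category.assoc,
      CentLift19.inc₀_comp, CentLift19.inc₀_comp, h]
  choose f hf hfc using fun (k : ℕ) (g : { g : Over.mk (Q A k) ⟶ G // ConjOn A (Q A k) v v' g }) =>
    exists_conj_step A hM v v' k g.1 g.2
  let w : ∀ k, { g : Over.mk (Q A k) ⟶ G // ConjOn A (Q A k) v v' g } := fun k =>
    Nat.rec (motive := fun k => { g : Over.mk (Q A k) ⟶ G // ConjOn A (Q A k) v v' g }) ⟨1, h₀⟩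
      (fun k g => ⟨f k g, hf k g⟩) k
  let U := 𝟙_ (Over (Spec (CommRingCat.of A)))
  haveI : IsFinite U.hom := inferInstanceAs (IsFinite (𝟙 (Spec (CommRingCat.of A))))
  obtain ⟨g, hgl, -⟩ := existsUnique_algebraize A (fun k => down (Q A k) U ≫ (w k).1) fun k t ht => by
    have h1 : t ≫ down (Q A (k + 1)) U = down (Q A k) U ≫ tr A k := Over.OverMorphism.ext
      ((cancel_mono (Q A (k + 1))).1 ((Over.w (t ≫ down (Q A (k + 1)) U)).trans
        (Over.w (down (Q A k) U ≫ tr A k)).symm))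
    rw [← Category.assoc, h1, Category.assoc]
    exact congrArg (_ ≫ ·) (hfc k (w k))
  have hlevel : ∀ (k : ℕ) (T : Over (Spec (CommRingCat.of A))) (p : T ⟶ Over.mk (Q A k)),
      toUnit T ≫ g = p ≫ (w k).1 := fun k T p => by
    obtain ⟨l, hl⟩ := exists_factor (Q A k) (toUnit T) p
    have h1 : l ≫ down (Q A k) U = p := Over.OverMorphism.ext
      ((cancel_mono (Q A k)).1 ((Over.w (l ≫ down (Q A k) U)).trans (Over.w p).symm))
    rw [← hl, Category.assoc, hgl, ← Category.assoc, h1]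
  refine ⟨g, ?_, fun X x => ?_⟩
  · refine (theta_bijective c).1 ?_
    rw [← CentLift19.inc₀_comp, toUnit_unique (inc₀ c U) (toUnit _), hlevel 0 _ (down c U ≫ s)]
    show (_ ≫ (1 : Over.mk (Q A 0) ⟶ G)) = theta c (1 : Red.bc c U ⟶ Red.bc c G)
    rw [MonObj.comp_one, MultDefLib.theta_one]
  · have hM' : v' = (toUnit M ≫ g) * v * (toUnit M ≫ g)⁻¹ := by
      refine eq_of_levels A fun k => ?_
      rw [MonObj.comp_mul, MonObj.comp_mul, GrpObj.comp_inv, ← Category.assoc, toUnit_unique (inc₀ (Q A k) M ≫ toUnit M)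
        (toUnit _), hlevel k _ (down (Q A k) M)]
      exact (w k).2 _ _ _
    rw [congrArg (x ≫ ·) hM']
    simp only [MonObj.comp_mul, GrpObj.comp_inv, ← Category.assoc, toUnit_unique (x ≫ toUnit M) (toUnit X)]

end Groth.Agent.Levels19

end
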