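import Groth.Agent.Levels19.Algebraize
import Groth.Agent.MultLift19.Basic
import Groth.Agent.MultDefLib.Conj
import Groth.Agent.MultDefLib.Transp

/-!
# Homomorphisms out of finite groups of multiplicative type into smooth groups over complete local rings
-/

universe u

open CategoryTheory CategoryTheory.Limits MonoidalCategory CartesianMonoidalCategory MonObj GrpObj AlgebraicGeometry

set_option linter.style.haveILetI false

noncomputable section

namespace Groth.Agent.Levels19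

open CentLift19 (restr₀ inc₀ mono_inc₀)
open DSPtsLib (theta theta_bijective theta_comp theta_mul)
open MultDefLib (theta_surjective)

section Hom

variable {S S₀ : Scheme.{u}} (q : S₀ ⟶ S) {M G : Over S} [GrpObj M] [GrpObj G]

/-- A multiplicative morphism out of a restriction. -/
def Mult (u : restr₀ q M ⟶ G) : Prop :=
  ∀ (T : Over S) (t t₁ t₂ : T ⟶ restr₀ q M), t ≫ inc₀ q M = (t₁ ≫ inc₀ q M) * (t₂ ≫ inc₀ q M) →
    t ≫ u = (t₁ ≫ u) * (t₂ ≫ u)

/-- Homomorphisms of restrictions are multiplicative. -/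
theorem mult_theta [Mono q] (v : Red.bc q M ⟶ Red.bc q G) [IsMonHom v] : Mult q (theta q v) :=
  fun _ t t₁ t₂ h => CentLift19.mul₀ q v t t₁ t₂ h

/-- Multiplicative morphisms come from homomorphisms. -/
theorem exists_isMonHom {u : restr₀ q M ⟶ G} (hu : Mult q u) :
    ∃ v : Red.bc q M ⟶ Red.bc q G, IsMonHom v ∧ theta q v = u := by
  obtain ⟨v, hv⟩ := theta_surjective q u
  refine ⟨v, MultLift19.isMonHom_of_mul v fun Y a b => ?_, hv⟩
  refine (theta_bijective q).1 ?_
  rw [theta_mul, theta_comp, theta_comp, theta_comp, hv]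
  refine hu _ _ _ _ ?_
  rw [← CentLift19.theta_eq, ← CentLift19.theta_eq, ← CentLift19.theta_eq, theta_mul]

end Hom

variable (A : Type u) [CommRing A] [IsLocalRing A]

/-- The square zero ideal between two levels. -/
abbrev Jk (k : ℕ) : Ideal (A ⧸ IsLocalRing.maximalIdeal A ^ (k + 2)) :=
  Ideal.map (Ideal.Quotient.mk _) (IsLocalRing.maximalIdeal A ^ (k + 1))

theorem isNilpotent_Jk (k : ℕ) : IsNilpotent (Jk A k) := by
  refine ⟨2, ?_⟩
  rw [Ideal.zero_eq_bot, ← Ideal.map_pow, ← pow_mul, Ideal.map_eq_bot_iff_le_ker, Ideal.mk_ker]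
  exact Ideal.pow_le_pow_right (by omega)

/-- The closed subscheme between two levels. -/
abbrev jk (k : ℕ) : Spec (CommRingCat.of ((A ⧸ IsLocalRing.maximalIdeal A ^ (k + 2)) ⧸ Jk A k)) ⟶
    Spec (CommRingCat.of (A ⧸ IsLocalRing.maximalIdeal A ^ (k + 2))) :=
  Spec.map (CommRingCat.ofHom (algebraMap (A ⧸ IsLocalRing.maximalIdeal A ^ (k + 2))
    ((A ⧸ IsLocalRing.maximalIdeal A ^ (k + 2)) ⧸ Jk A k)))

theorem exists_toLevel (k : ℕ) : ∃ (a : Over.mk (jk A k ≫ Q A (k + 1)) ⟶ Over.mk (Q A k))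
    (a' : Over.mk (Q A k) ⟶ Over.mk (jk A k ≫ Q A (k + 1))), a'.left ≫ jk A k = (tr A k).left := by
  let 𝔪 := IsLocalRing.maximalIdeal A
  let g : A →+* (A ⧸ 𝔪 ^ (k + 2)) ⧸ Jk A k :=
    (algebraMap (A ⧸ 𝔪 ^ (k + 2)) _).comp (Ideal.Quotient.mk (𝔪 ^ (k + 2)))
  have h1 : ∀ x ∈ 𝔪 ^ (k + 1), g x = 0 := fun x hx =>
    Ideal.Quotient.eq_zero_iff_mem.2 (Ideal.mem_map_of_mem _ hx)
  have h2 : ∀ y ∈ Jk A k, Ideal.Quotient.factor (Ideal.pow_le_pow_right (I := 𝔪) (Nat.le_succ (k + 1))) y = 0 := by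
    intro y hy
    refine (Ideal.map_le_iff_le_comap.2 ?_ : Jk A k ≤ RingHom.ker _) hy
    intro x hx
    show Ideal.Quotient.factor _ (Ideal.Quotient.mk _ x) = 0
    rw [Ideal.Quotient.factor_mk]
    exact Ideal.Quotient.eq_zero_iff_mem.2 hx
  refine ⟨Over.homMk (Spec.map (CommRingCat.ofHom (Ideal.Quotient.lift _ g h1))) ?_,
    Over.homMk (Spec.map (CommRingCat.ofHom (Ideal.Quotient.lift _ _ h2))) ?_, ?_⟩
  · show _ ≫ Spec.map _ = Spec.map _ ≫ Spec.map _
    rw [← Spec.map_comp, ← Spec.map_comp, ← CommRingCat.ofHom_comp, Ideal.Quotient.lift_comp_mk]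
    rfl
  · show Spec.map _ ≫ Spec.map _ ≫ Spec.map _ = Spec.map _
    rw [← Category.assoc, ← Spec.map_comp, ← Spec.map_comp]
    rfl
  · show Spec.map _ ≫ Spec.map _ = Spec.map _
    rw [← Spec.map_comp]
    rfl

variable {M G : Over (Spec (CommRingCat.of A))} [GrpObj M] [GrpObj G]

theorem exists_step (hM : SGA3x.IsMultTypeFT M) [Smooth G.hom] (k : ℕ) (u : restr₀ (Q A k) M ⟶ G)
    (hu : Mult (Q A k) u) :
    ∃ u' : restr₀ (Q A (k + 1)) M ⟶ G, Mult (Q A (k + 1)) u' ∧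
      ∀ t : restr₀ (Q A k) M ⟶ restr₀ (Q A (k + 1)) M, t ≫ inc₀ (Q A (k + 1)) M = inc₀ (Q A k) M → t ≫ u' = u := by
  obtain ⟨a, a', ha'⟩ := exists_toLevel A k
  let q := Q A k
  let q₁ := Q A (k + 1)
  let i := jk A k
  let H := Red.bc q₁ M
  let K := Red.bc q₁ G
  haveI : IsClosedImmersion i := IsClosedImmersion.spec_of_surjective _ Ideal.Quotient.mk_surjective
  haveI := mono_inc₀ q (M := M)
  haveI := mono_inc₀ q₁ (M := M)
  haveI := mono_inc₀ i (M := H)
  let X : Over (Spec (CommRingCat.of A)) := (Over.map q₁).obj (restr₀ i H)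
  let x : X ⟶ M := theta q₁ (inc₀ i H)
  let pX : X ⟶ Over.mk (i ≫ q₁) := Over.homMk (pullback.snd H.hom i) (Category.assoc _ _ _).symm
  obtain ⟨l, hl⟩ := exists_factor q x (pX ≫ a)
  obtain ⟨w, hw⟩ := theta_surjective q₁ (l ≫ u)
  obtain ⟨ψ, hψ⟩ := theta_surjective i w
  haveI : IsMonHom ψ := MultLift19.isMonHom_of_mul ψ fun Y b c => by
    refine (theta_bijective i).1 ((theta_bijective q₁).1 ?_)
    rw [theta_mul, theta_mul]
    simp only [theta_comp, hψ, hw]
    rw [← Category.assoc, ← Category.assoc, ← Category.assoc]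
    refine hu _ _ _ _ ?_
    rw [Category.assoc, Category.assoc, Category.assoc, show l ≫ inc₀ (Q A k) M = theta q₁ (inc₀ i H) from hl]
    simp only [← theta_comp, Category.comp_id, theta_mul]
  haveI : Smooth K.hom := inferInstanceAs (Smooth (pullback.snd G.hom q₁))
  obtain ⟨θ, hθ, hθψ⟩ := MultLift19.exists_lift_smooth (J := Jk A k) (isNilpotent_Jk A k) (K := K)
    (MultDefLib.multLoc_bc q₁ hM) ψ
  refine ⟨theta q₁ θ, mult_theta q₁ θ, fun t ht => ?_⟩
  -- the previous level is a part of the closed part of the new one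
  let T : Over (Spec (CommRingCat.of (A ⧸ IsLocalRing.maximalIdeal A ^ (k + 2)))) := Over.mk (t.left ≫ H.hom)
  let y : T ⟶ H := Over.homMk t.left rfl
  have htr : t.left ≫ H.hom = (down q M).left ≫ (tr A k).left := by
    rw [← cancel_mono q₁, Category.assoc, Category.assoc]
    exact (Over.w t).trans ((Over.w (down q M)).symm.trans (congrArg (_ ≫ ·) (Over.w (tr A k)).symm))
  obtain ⟨s, hs⟩ := exists_factor i y (Over.homMk ((down q M).left ≫ a'.left) (by
    show (_ ≫ _) ≫ i = t.left ≫ H.hom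
    rw [Category.assoc, ha', htr]))
  let e : restr₀ q M ⟶ (Over.map q₁).obj T := Over.homMk (𝟙 _) (by
    show 𝟙 _ ≫ (t.left ≫ H.hom) ≫ q₁ = _
    rw [Category.id_comp, Category.assoc]
    exact Over.w t)
  have he : e ≫ (Over.map q₁).map y = t := Over.OverMorphism.ext (Category.id_comp _)
  let σ : restr₀ q M ⟶ X := e ≫ (Over.map q₁).map s
  have hσ : σ ≫ (Over.map q₁).map (inc₀ i H) = t := by
    rw [Category.assoc, ← Functor.map_comp, hs, he]
  have hσl : σ ≫ l = 𝟙 _ := by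
    rw [← cancel_mono (inc₀ q M), Category.assoc, hl]
    show σ ≫ theta q₁ (inc₀ i H) = _
    rw [CentLift19.theta_eq, ← Category.assoc, hσ, ht, Category.id_comp]
  have hθ' : inc₀ i H ≫ θ = w := by rw [CentLift19.inc₀_comp, hθψ, hψ]
  calc t ≫ theta q₁ θ = σ ≫ (Over.map q₁).map (inc₀ i H) ≫ theta q₁ θ := by rw [← Category.assoc, hσ]
    _ = σ ≫ theta q₁ (inc₀ i H ≫ θ) := by rw [theta_comp]
    _ = σ ≫ l ≫ u := by rw [hθ', hw]
    _ = u := by rw [← Category.assoc, hσl, Category.id_comp]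

variable [IsNoetherianRing A] [IsAdicComplete (IsLocalRing.maximalIdeal A) A]

theorem exists_relevel : ∃ (s : Over.mk (CentLift19.closedPt A) ⟶ Over.mk (Q A 0))
    (_ : Over.mk (Q A 0) ⟶ Over.mk (CentLift19.closedPt A)), True := by
  let 𝔪 := IsLocalRing.maximalIdeal A
  have e : 𝔪 ^ (0 + 1) = 𝔪 := by rw [zero_add, pow_one]
  exact ⟨Over.homMk (Spec.map (CommRingCat.ofHom (Ideal.Quotient.factor e.le))) (by
      show _ ≫ Spec.map _ = Spec.map _
      rw [← Spec.map_comp]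
      rfl),
    Over.homMk (Spec.map (CommRingCat.ofHom (Ideal.Quotient.factor e.ge))) (by
      show _ ≫ Spec.map _ = Spec.map _
      rw [← Spec.map_comp]
      rfl), trivial⟩

/-- Homomorphisms out of finite groups of multiplicative type into smooth groups lift over complete local rings. -/
theorem exists_lift_hom (hM : SGA3x.IsMultTypeFT M) [IsFinite M.hom] [Smooth G.hom]
    (u₀ : Red.bc (CentLift19.closedPt A) M ⟶ Red.bc (CentLift19.closedPt A) G) [IsMonHom u₀] :
    ∃ u : M ⟶ G, IsMonHom u ∧ (Over.pullback (CentLift19.closedPt A)).map u = u₀ := by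
  let c := CentLift19.closedPt A
  haveI : IsClosedImmersion c := IsClosedImmersion.spec_of_surjective _ Ideal.Quotient.mk_surjective
  haveI := mono_inc₀ c (M := M)
  haveI := mono_inc₀ (Q A 0) (M := M)
  obtain ⟨s, s', -⟩ := exists_relevel A
  obtain ⟨l₀, hl₀⟩ := exists_factor c (inc₀ (Q A 0) M) (down (Q A 0) M ≫ s')
  have h₀ : Mult (Q A 0) (l₀ ≫ theta c u₀) := fun T t t₁ t₂ h => by
    rw [← Category.assoc, ← Category.assoc, ← Category.assoc]
    refine mult_theta c u₀ T _ _ _ ?_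
    simpa only [Category.assoc, hl₀] using h
  choose f hf hfc using fun (k : ℕ) (u : { u : restr₀ (Q A k) M ⟶ G // Mult (Q A k) u }) =>
    exists_step A hM k u.1 u.2
  let w : ∀ k, { u : restr₀ (Q A k) M ⟶ G // Mult (Q A k) u } := fun k =>
    Nat.rec (motive := fun k => { u : restr₀ (Q A k) M ⟶ G // Mult (Q A k) u }) ⟨_, h₀⟩
      (fun k u => ⟨f k u, hf k u⟩) k
  obtain ⟨b, hb, -⟩ := existsUnique_algebraize A (fun k => (w k).1) fun k t ht => hfc k (w k) t ht
  haveI : IsFinite (M ⊗ M).hom := inferInstanceAs (IsFinite (pullback.fst M.hom M.hom ≫ M.hom))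
  have hmul : μ[M] ≫ b = (fst M M ≫ b) * (snd M M ≫ b) := by
    refine eq_of_levels A fun k => ?_
    let ε := inc₀ (Q A k) (M ⊗ M)
    obtain ⟨t, ht⟩ := exists_factor (Q A k) (ε ≫ μ[M]) (down (Q A k) (M ⊗ M))
    obtain ⟨t₁, ht₁⟩ := exists_factor (Q A k) (ε ≫ fst M M) (down (Q A k) (M ⊗ M))
    obtain ⟨t₂, ht₂⟩ := exists_factor (Q A k) (ε ≫ snd M M) (down (Q A k) (M ⊗ M))
    rw [MonObj.comp_mul, ← Category.assoc, ← Category.assoc, ← Category.assoc, ← ht, ← ht₁, ← ht₂, Category.assoc,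
      Category.assoc, Category.assoc, hb]
    refine (w k).2 _ t t₁ t₂ ?_
    rw [ht, ht₁, ht₂, ← MonObj.comp_mul, Hom.mul_def, lift_fst_snd, Category.id_comp]
  refine ⟨b, MultLift19.isMonHom_of_mul b fun X x y => by
    rw [Hom.mul_def, Category.assoc, hmul, MonObj.comp_mul, lift_fst_assoc, lift_snd_assoc],
    (theta_bijective c).1 ?_⟩
  rw [← CentLift19.inc₀_comp]
  obtain ⟨l, hl⟩ := exists_factor (Q A 0) (inc₀ c M) (down c M ≫ s)
  have hll : l ≫ l₀ = 𝟙 _ := by rw [← cancel_mono (inc₀ c M), Category.assoc, hl₀, hl, Category.id_comp]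
  rw [← hl, Category.assoc, hb]
  show l ≫ l₀ ≫ theta c u₀ = _
  rw [← Category.assoc, hll, Category.id_comp]

end Groth.Agent.Levels19

end
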